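import Groth.Agent.Depth.CM
import Groth.Agent.PtTop.Catenary

/-!
Cohen–Macaulay modules with full support: the dimension formula `dim R = dim R/p + height p`,
saturated chains, catenarity of Cohen–Macaulay rings.
-/

set_option autoImplicit false
universe u v

namespace Groth.Agent.CMCat

open Groth.Agent Depth

variable {R : Type u} [CommRing R]

theorem support_localizedModule_eq_univ {M : Type v} [AddCommGroup M] [Module R M]
    (hs : Module.support R M = Set.univ) (p : Ideal R) [p.IsPrime] :
    Module.support (Localization.AtPrime p) (LocalizedModule p.primeCompl M) = Set.univ := by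
  refine Set.eq_univ_of_forall fun q => ?_
  set f := algebraMap R (Localization.AtPrime p)
  obtain ⟨m, hm⟩ := Module.mem_support_iff'.mp (hs.symm ▸ Set.mem_univ (PrimeSpectrum.comap f q) :
    PrimeSpectrum.comap f q ∈ Module.support R M)
  refine Module.mem_support_iff'.mpr ⟨LocalizedModule.mk m 1, fun r hr he => hr ?_⟩
  obtain ⟨a, s, rfl⟩ := IsLocalization.exists_mk'_eq p.primeCompl r
  rw [← Localization.mk_eq_mk', LocalizedModule.mk_smul_mk, ← LocalizedModule.zero_mk 1,
    LocalizedModule.mk_eq] at he
  obtain ⟨t, ht⟩ := he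
  simp only [one_smul, smul_zero, Submonoid.smul_def, smul_smul, mul_one] at ht
  have hta : ((t : R) * a) ∈ (PrimeSpectrum.comap f q).asIdeal := by
    by_contra hn
    exact hm _ hn ht
  have ha : f a ∈ q.asIdeal := by
    have hu : IsUnit (f t) := IsLocalization.map_units _ t
    rw [PrimeSpectrum.comap_asIdeal, Ideal.mem_comap, map_mul] at hta
    exact (Ideal.unit_mul_mem_iff_mem _ hu).mp hta
  rw [IsLocalization.mk'_eq_mul_mk'_one]
  exact Ideal.mul_mem_right _ _ ha

theorem supportDim_eq_of_support_univ {M : Type v} [AddCommGroup M] [Module R M]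
    (hs : Module.support R M = Set.univ) : Module.supportDim R M = ringKrullDim R := by
  rw [Module.supportDim, hs, ringKrullDim]
  exact Order.krullDim_eq_of_orderIso OrderIso.Set.univ

variable [IsLocalRing R] [IsNoetherianRing R] {M : Type u} [AddCommGroup M] [Module R M]
  [Module.Finite R M]

theorem ringKrullDim_eq_quotient_add_height (h : LocCoh.IsCohenMacaulayModule R M)
    (hs : Module.support R M = Set.univ) (p : Ideal R) [p.IsPrime] :
    ringKrullDim R = ringKrullDim (R ⧸ p) + ((p.height : ℕ∞) : WithBot ℕ∞) := by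
  have hp : (⟨p, inferInstance⟩ : PrimeSpectrum R) ∈ Module.support R M := hs ▸ Set.mem_univ _
  haveI := Module.mem_support_iff.mp hp
  have h1 := supportDim_eq_supportDim_quotient_add_idealDepth
    (IsLocalRing.le_maximalIdeal (Ideal.IsPrime.ne_top ‹p.IsPrime›)) h
  have h2 : Module.supportDim R (M ⧸ (p • (⊤ : Submodule R M))) = ringKrullDim (R ⧸ p) := by
    rw [ringKrullDim_quotient, Module.supportDim, Module.support_quotient, hs, Set.univ_inter]
  have h3 : ((LocCoh.idealDepth p M : ℕ∞) : WithBot ℕ∞) = ((p.height : ℕ∞) : WithBot ℕ∞) := by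
    have h4 := isCohenMacaulayModule_localizedModule h p inferInstance
    rw [LocCoh.IsCohenMacaulayModule, supportDim_eq_of_support_univ (support_localizedModule_eq_univ hs p),
      depth_localizedModule_eq_idealDepth h p inferInstance,
      IsLocalization.AtPrime.ringKrullDim_eq_height p] at h4
    exact h4.symm
  rwa [supportDim_eq_of_support_univ hs, h2, h3] at h1

omit [IsLocalRing R] in
theorem height_covBy_of_cm {P Q : PrimeSpectrum R} (hPQ : P ⋖ Q)
    (h : LocCoh.IsCohenMacaulayModule (Localization.AtPrime Q.asIdeal) (LocalizedModule Q.asIdeal.primeCompl M))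
    (hs : Module.support R M = Set.univ) :
    Q.asIdeal.height = P.asIdeal.height + 1 := by
  let A := Localization.AtPrime Q.asIdeal
  let p := P.asIdeal.map (algebraMap R A)
  have hd : Disjoint (Q.asIdeal.primeCompl : Set R) P.asIdeal :=
    Set.disjoint_left.mpr fun a ha hap => ha (hPQ.1.le hap)
  haveI : p.IsPrime := IsLocalization.isPrime_of_isPrime_disjoint Q.asIdeal.primeCompl A _ P.2 hd
  have hcomap : p.comap (algebraMap R A) = P.asIdeal :=
    IsLocalization.comap_map_of_isPrime_disjoint Q.asIdeal.primeCompl A P.2 hd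
  have hh : p.height = P.asIdeal.height := by
    rw [← hcomap, IsLocalization.height_under Q.asIdeal.primeCompl p]
  have hlt : p < IsLocalRing.maximalIdeal A := by
    refine lt_of_le_of_ne (IsLocalRing.le_maximalIdeal (Ideal.IsPrime.ne_top inferInstance)) fun he => ?_
    rw [he] at hcomap
    exact hPQ.1.ne (PrimeSpectrum.ext (hcomap.symm.trans (IsLocalization.AtPrime.under_maximalIdeal A Q.asIdeal)))
  have h1 : ringKrullDim (A ⧸ p) = 1 := by
    refine le_antisymm ?_ ?_
    · rw [ringKrullDim_quotient]
      refine iSup_le fun s => ?_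
      by_contra hlen
      push_neg at hlen
      have hlen' : 2 ≤ s.length := by exact_mod_cast hlen
      have a01 : (s ⟨0, by omega⟩).1 < (s ⟨1, by omega⟩).1 := s.strictMono (by simp [Fin.lt_def])
      have a12 : (s ⟨1, by omega⟩).1 < (s ⟨2, by omega⟩).1 := s.strictMono (by simp [Fin.lt_def])
      set b := (s ⟨1, by omega⟩).1
      refine hPQ.2 (c := PrimeSpectrum.comap (algebraMap R A) b) ?_ ?_
      · refine lt_of_le_of_ne ?_ ?_
        · exact (hcomap.ge).trans (Ideal.comap_mono (le_trans (s ⟨0, by omega⟩).2 a01.le))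
        · intro he
          have hb : b.asIdeal ≤ p := by
            rw [← IsLocalization.map_under Q.asIdeal.primeCompl (S := A) b.asIdeal]
            exact Ideal.map_mono (le_of_eq (congrArg PrimeSpectrum.asIdeal he).symm)
          exact not_le_of_gt a01 (hb.trans (s ⟨0, by omega⟩).2)
      · refine lt_of_le_of_ne ?_ ?_
        · exact (Ideal.comap_mono (IsLocalRing.le_maximalIdeal b.2.ne_top)).trans
            (IsLocalization.AtPrime.under_maximalIdeal A Q.asIdeal).le
        · intro he
          have hb : IsLocalRing.maximalIdeal A ≤ b.asIdeal := by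
            rw [← IsLocalization.map_under Q.asIdeal.primeCompl (S := A) b.asIdeal,
              show b.asIdeal.under R = Q.asIdeal from congrArg PrimeSpectrum.asIdeal he]
            exact (IsLocalization.AtPrime.map_eq_maximalIdeal Q.asIdeal A).ge
          exact absurd a12 (not_lt_of_ge ((IsLocalRing.le_maximalIdeal (s ⟨2, by omega⟩).1.2.ne_top).trans hb))
    · rw [ringKrullDim_quotient]
      let a : PrimeSpectrum.zeroLocus (p : Set A) := ⟨⟨p, inferInstance⟩, fun x hx => hx⟩
      let b : PrimeSpectrum.zeroLocus (p : Set A) := ⟨IsLocalRing.closedPoint A, hlt.le⟩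
      exact Order.one_le_krullDim_iff.mpr ⟨a, b, hlt⟩
  have h2 := ringKrullDim_eq_quotient_add_height h (support_localizedModule_eq_univ hs Q.asIdeal) p
  rw [h1, hh, IsLocalization.AtPrime.ringKrullDim_eq_height Q.asIdeal] at h2
  rw [add_comm]
  exact_mod_cast h2

omit [IsLocalRing R] [IsNoetherianRing R] in
theorem height_covBy_of_cmRing [LocCoh.IsCohenMacaulayRing R] {P Q : PrimeSpectrum R} (hPQ : P ⋖ Q) :
    Q.asIdeal.height = P.asIdeal.height + 1 := by
  refine height_covBy_of_cm (M := R) hPQ ?_ (Set.eq_univ_of_forall fun x => ?_)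
  · haveI := LocCoh.IsCohenMacaulayRing.isCohenMacaulayLocalRing_localization (R := R) Q.asIdeal
    exact (isCohenMacaulayModule_congr (localizedModuleSelfEquiv Q.asIdeal.primeCompl)).mpr
      (isCohenMacaulayModule_self _)
  · exact Module.mem_support_iff'.mpr ⟨1, fun r hr he => hr (by
      rw [smul_eq_mul, mul_one] at he; rw [he]; exact zero_mem _)⟩

omit [IsLocalRing R] in
theorem height_strictMono : StrictMono fun P : PrimeSpectrum R => ((P.asIdeal.height).toNat : ℤ) := by
  intro P Q hlt
  have h : P.asIdeal.height < Q.asIdeal.height :=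
    Ideal.height_strict_mono_of_isPrime (show P.asIdeal < Q.asIdeal from hlt)
  have hQ : Q.asIdeal.height ≠ ⊤ := Ideal.height_ne_top Q.2.ne_top
  simp only [Nat.cast_lt]
  exact ENat.natCast_lt_natCast.mp (by rwa [ENat.natCast_toNat (h.trans_le le_top).ne, ENat.natCast_toNat hQ])

omit [IsLocalRing R] [IsNoetherianRing R] in
theorem isCatenary_of_isCohenMacaulayRing [LocCoh.IsCohenMacaulayRing R] : CAlg.IsCatenary R := by
  refine (PtTop.Catenary.cat_iff_isCatenary R).mpr (PtTop.Catenary.cat_of_rank _ height_strictMono fun P Q h => ?_)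
  have := height_covBy_of_cmRing h
  rw [this, ENat.toNat_add (Ideal.height_ne_top P.2.ne_top) ENat.one_ne_top]
  simp

end Groth.Agent.CMCat
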